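import Mathlib

/-!
Sections of constant sheaves of modules: the functor `M ↦ M̲(U)` is exact and linear, and such a functor
commutes with tensor products by finitely presented modules.
-/

set_option autoImplicit false
set_option backward.isDefEq.respectTransparency false

namespace Groth.Agent.W7ConstSheaf

universe u

open CategoryTheory Limits Opposite
open scoped TensorProduct

variable {Λ : Type u} [CommRing Λ]

section
variable {C : Type u} [SmallCategory C] (J : GrothendieckTopology C) (U : C)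

/-- A constant presheaf. -/
noncomputable abbrev Pc (A : ModuleCat.{u} Λ) : Cᵒᵖ ⥤ ModuleCat.{u} Λ := (Functor.const Cᵒᵖ).obj A

variable (Λ) in
/-- `M ↦ M̲(U)`. -/
noncomputable abbrev sec : ModuleCat.{u} Λ ⥤ ModuleCat.{u} Λ :=
  constantSheaf J (ModuleCat.{u} Λ) ⋙ (sheafSections J (ModuleCat.{u} Λ)).obj (op U)

theorem hom_const {A B : ModuleCat.{u} Λ} (g : A ⟶ B) :
    toSheafify J (Pc A) ≫ ((constantSheaf J (ModuleCat.{u} Λ)).map g).hom =
      (Functor.const Cᵒᵖ).map g ≫ toSheafify J (Pc B) :=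
  (toSheafify_naturality J ((Functor.const Cᵒᵖ).map g)).symm

instance : (sec Λ J U).Additive where
  map_add {A B f g} := by
    have h : ((constantSheaf J (ModuleCat.{u} Λ)).map (f + g)).hom =
        ((constantSheaf J (ModuleCat.{u} Λ)).map f).hom + ((constantSheaf J (ModuleCat.{u} Λ)).map g).hom := by
      refine sheafify_hom_ext J _ _ ((constantSheaf J (ModuleCat.{u} Λ)).obj B).property ?_
      rw [Preadditive.comp_add, hom_const, hom_const, hom_const, ← Preadditive.add_comp]
      rfl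
    exact NatTrans.congr_app h (op U)

theorem map_smul' {A B : ModuleCat.{u} Λ} (r : Λ) (f : A ⟶ B) : (sec Λ J U).map (r • f) = r • (sec Λ J U).map f := by
  have h : ((constantSheaf J (ModuleCat.{u} Λ)).map (r • f)).hom =
      r • ((constantSheaf J (ModuleCat.{u} Λ)).map f).hom := by
    refine sheafify_hom_ext J _ _ ((constantSheaf J (ModuleCat.{u} Λ)).obj B).property ?_
    rw [Linear.comp_smul, hom_const, hom_const, ← Linear.smul_comp]
    rfl
  exact NatTrans.congr_app h (op U)

instance : (sec Λ J U).Linear Λ where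
  map_smul f r := map_smul' J U r f

instance : PreservesFiniteLimits (sec Λ J U) := by
  haveI : PreservesFiniteLimits (Functor.const Cᵒᵖ : ModuleCat.{u} Λ ⥤ _) := inferInstance
  haveI : PreservesFiniteLimits (constantSheaf J (ModuleCat.{u} Λ)) := comp_preservesFiniteLimits _ _
  haveI : PreservesFiniteLimits ((sheafSections J (ModuleCat.{u} Λ)).obj (op U)) :=
    inferInstanceAs (PreservesFiniteLimits (sheafToPresheaf J (ModuleCat.{u} Λ) ⋙
      (evaluation Cᵒᵖ (ModuleCat.{u} Λ)).obj (op U)))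
  exact comp_preservesFiniteLimits _ _

/-- A surjection of modules gives a surjection on sections of the constant sheaves. -/
theorem surjective_sec {A B : ModuleCat.{u} Λ} (g : A ⟶ B) (hg : Function.Surjective g) :
    Function.Surjective ((sec Λ J U).map g) := by
  let η := fun A : ModuleCat.{u} Λ => Functor.whiskerRight (toSheafify J (Pc A)) (forget (ModuleCat.{u} Λ))
  have hW : ∀ A (G : Sheaf J (Type u)), Function.Bijective
      fun t : sheafify J (Pc A) ⋙ forget (ModuleCat.{u} Λ) ⟶ G.obj => η A ≫ t :=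
    fun A G => J.W_of_isLocallyBijective (η A) _ G.property
  obtain ⟨σ, hσ⟩ := hg.hasRightInverse
  let U' := (sheafCompose J (forget (ModuleCat.{u} Λ)))
  let s₀ : Pc B ⋙ forget (ModuleCat.{u} Λ) ⟶ sheafify J (Pc A) ⋙ forget (ModuleCat.{u} Λ) :=
    { app := fun V => ↾fun c => (toSheafify J (Pc A)).app V (σ c)
      naturality := fun V W a => by
        ext c
        exact NatTrans.naturality_apply (toSheafify J (Pc A)) a (σ c) }
  obtain ⟨s, hs⟩ := (hW B (U'.obj ((presheafToSheaf J _).obj (Pc A)))).2 s₀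
  let m := ((constantSheaf J (ModuleCat.{u} Λ)).map g).hom
  have hsg : s ≫ Functor.whiskerRight m (forget (ModuleCat.{u} Λ)) = 𝟙 _ := by
    refine (hW B (U'.obj ((presheafToSheaf J _).obj (Pc B)))).1 ?_
    ext V c
    refine (congr_arg (m.app V) (ConcreteCategory.congr_hom (NatTrans.congr_app hs V) c)).trans ?_
    refine (ConcreteCategory.congr_hom (NatTrans.congr_app (hom_const J g) V) (σ c)).trans ?_
    exact congr_arg ((toSheafify J (Pc B)).app V) (hσ c)
  exact fun x => ⟨s.app (op U) x, ConcreteCategory.congr_hom (NatTrans.congr_app hsg (op U)) x⟩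

end

section
variable (G : ModuleCat.{u} Λ ⥤ ModuleCat.{u} Λ) [G.Additive] [G.Linear Λ] (M : Type u) [AddCommGroup M] [Module Λ M]

/-- The action of `G` on linear maps. -/
noncomputable def Gm {A B : Type u} [AddCommGroup A] [Module Λ A] [AddCommGroup B] [Module Λ B] (f : A →ₗ[Λ] B) :
    G.obj (ModuleCat.of Λ A) →ₗ[Λ] G.obj (ModuleCat.of Λ B) := (G.map (ModuleCat.ofHom f)).hom

theorem Gm_comp {A B D : Type u} [AddCommGroup A] [Module Λ A] [AddCommGroup B] [Module Λ B] [AddCommGroup D] [Module Λ D]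
    (f : A →ₗ[Λ] B) (g : B →ₗ[Λ] D) : Gm G (g ∘ₗ f) = Gm G g ∘ₗ Gm G f := by
  rw [Gm, Gm, Gm, ModuleCat.ofHom_comp, G.map_comp, ModuleCat.hom_comp]

theorem Gm_id {A : Type u} [AddCommGroup A] [Module Λ A] : Gm G (LinearMap.id : A →ₗ[Λ] A) = LinearMap.id := by
  show (G.map (𝟙 (ModuleCat.of Λ A))).hom = _
  rw [G.map_id]; rfl

/-- `Gm` as a linear map. -/
noncomputable def GmL {A B : Type u} [AddCommGroup A] [Module Λ A] [AddCommGroup B] [Module Λ B] :
    (A →ₗ[Λ] B) →ₗ[Λ] (G.obj (ModuleCat.of Λ A) →ₗ[Λ] G.obj (ModuleCat.of Λ B)) where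
  toFun := Gm G
  map_add' f g := by
    show (G.map (ModuleCat.ofHom (f + g))).hom = (G.map (ModuleCat.ofHom f)).hom + (G.map (ModuleCat.ofHom g)).hom
    rw [show ModuleCat.ofHom (f + g) = ModuleCat.ofHom f + ModuleCat.ofHom g from rfl, G.map_add]
    rfl
  map_smul' r f := by
    show (G.map (ModuleCat.ofHom (r • f))).hom = r • (G.map (ModuleCat.ofHom f)).hom
    rw [show ModuleCat.ofHom (r • f) = r • ModuleCat.ofHom f from rfl, G.map_smul]
    rfl

/-- The comparison `G M ⊗ Q ⟶ G (M ⊗ Q)`. -/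
noncomputable def cmp (Q : Type u) [AddCommGroup Q] [Module Λ Q] :
    G.obj (ModuleCat.of Λ M) ⊗[Λ] Q →ₗ[Λ] G.obj (ModuleCat.of Λ (M ⊗[Λ] Q)) :=
  TensorProduct.lift ((GmL G ∘ₗ (TensorProduct.mk Λ M Q).flip).flip)

theorem cmp_tmul (Q : Type u) [AddCommGroup Q] [Module Λ Q] (s : G.obj (ModuleCat.of Λ M)) (q : Q) :
    cmp G M Q (s ⊗ₜ q) = Gm G ((TensorProduct.mk Λ M Q).flip q) s := rfl

theorem cmp_natural {Q Q' : Type u} [AddCommGroup Q] [Module Λ Q] [AddCommGroup Q'] [Module Λ Q'] (β : Q →ₗ[Λ] Q') :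
    cmp G M Q' ∘ₗ β.lTensor (G.obj (ModuleCat.of Λ M)) = Gm G (β.lTensor M) ∘ₗ cmp G M Q := by
  refine TensorProduct.ext' fun s q => ?_
  show cmp G M Q' (s ⊗ₜ β q) = Gm G (β.lTensor M) (Gm G ((TensorProduct.mk Λ M Q).flip q) s)
  rw [cmp_tmul]
  exact LinearMap.congr_fun (Gm_comp G ((TensorProduct.mk Λ M Q).flip q) (β.lTensor M)) s

theorem cmp_free (n : ℕ) : Function.Bijective (cmp G M (Fin n → Λ)) := by
  classical
  let ev : Fin n → (M ⊗[Λ] (Fin n → Λ) →ₗ[Λ] M) := fun j => (TensorProduct.rid Λ M).toLinearMap ∘ₗ (LinearMap.proj j).lTensor M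
  let b : Fin n → (Fin n → Λ) := fun j => Pi.single j 1
  have he : ∀ i j, ev i ∘ₗ (TensorProduct.mk Λ M (Fin n → Λ)).flip (b j) = if i = j then LinearMap.id else 0 := fun i j => by
    refine LinearMap.ext fun m => ?_
    by_cases h : i = j
    · subst h; simp [ev, b]
    · simp [ev, b, h, Pi.single_eq_of_ne h]
  have hsum : ∑ j, (TensorProduct.mk Λ M (Fin n → Λ)).flip (b j) ∘ₗ ev j = LinearMap.id := by
    refine TensorProduct.ext' fun m q => ?_
    simp only [LinearMap.sum_apply, LinearMap.comp_apply, ev, LinearMap.lTensor_tmul, LinearMap.flip_apply,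
      TensorProduct.mk_apply, LinearEquiv.coe_coe, TensorProduct.rid_tmul, LinearMap.proj_apply, LinearMap.id_apply,
      ← TensorProduct.tmul_smul, TensorProduct.smul_tmul, ← TensorProduct.tmul_sum]
    exact congrArg _ (pi_eq_sum_univ' q).symm
  constructor
  · let inv : G.obj (ModuleCat.of Λ (M ⊗[Λ] (Fin n → Λ))) →ₗ[Λ] G.obj (ModuleCat.of Λ M) ⊗[Λ] (Fin n → Λ) :=
      ∑ j, (TensorProduct.mk Λ _ (Fin n → Λ)).flip (b j) ∘ₗ Gm G (ev j)
    have h : inv ∘ₗ cmp G M (Fin n → Λ) = LinearMap.id := by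
      refine TensorProduct.ext' fun s q => ?_
      have hq : q = ∑ j, q j • b j := pi_eq_sum_univ' q
      rw [hq, TensorProduct.tmul_sum, map_sum, map_sum]
      refine Finset.sum_congr rfl fun j _ => ?_
      rw [TensorProduct.tmul_smul, map_smul, map_smul]
      refine congrArg _ ?_
      show inv (cmp G M (Fin n → Λ) (s ⊗ₜ b j)) = _
      simp only [inv, LinearMap.sum_apply, LinearMap.comp_apply, cmp_tmul]
      rw [Finset.sum_eq_single j]
      · rw [← LinearMap.comp_apply (f := Gm G (ev j)), ← Gm_comp, he, if_pos rfl, Gm_id]; rfl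
      · intro i _ hi
        rw [← LinearMap.comp_apply (f := Gm G (ev i)), ← Gm_comp, he, if_neg hi]
        show ((GmL G) (0 : M →ₗ[Λ] M)) s ⊗ₜ b i = 0
        rw [map_zero, LinearMap.zero_apply, TensorProduct.zero_tmul]
      · intro h; exact absurd (Finset.mem_univ _) h
    exact Function.LeftInverse.injective (g := inv) fun x => LinearMap.congr_fun h x
  · intro y
    refine ⟨∑ j, Gm G (ev j) y ⊗ₜ b j, ?_⟩
    rw [map_sum]
    have h2 := congrArg (fun f => GmL G f y) hsum
    rw [map_sum, LinearMap.sum_apply] at h2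
    refine Eq.trans (Finset.sum_congr rfl fun j _ => ?_) (h2.trans ?_)
    · show cmp G M (Fin n → Λ) (_ ⊗ₜ _) = Gm G (_ ∘ₗ _) y
      rw [cmp_tmul, Gm_comp G (ev j) ((TensorProduct.mk Λ M (Fin n → Λ)).flip (b j))]; rfl
    · show Gm G LinearMap.id y = y
      rw [Gm_id]; rfl

theorem cmp_bijective [PreservesFiniteLimits G]
    (hepi : ∀ {A B : ModuleCat.{u} Λ} (g : A ⟶ B), Function.Surjective g → Function.Surjective (G.map g))
    (Q : Type u) [AddCommGroup Q] [Module Λ Q] [Module.FinitePresentation Λ Q] :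
    Function.Bijective (cmp G M Q) := by
  obtain ⟨n, m, β, α, hβ, hex⟩ := Module.FinitePresentation.exists_fin' Λ Q
  constructor
  · rw [injective_iff_map_eq_zero]
    intro x hx
    obtain ⟨x, rfl⟩ := LinearMap.lTensor_surjective (G.obj (ModuleCat.of Λ M)) hβ x
    rw [← LinearMap.comp_apply, cmp_natural, LinearMap.comp_apply] at hx
    let S : ShortComplex (ModuleCat.{u} Λ) := ShortComplex.mk (ModuleCat.ofHom (α.lTensor M)) (ModuleCat.ofHom (β.lTensor M))
      (by
        rw [← ModuleCat.ofHom_comp, ← LinearMap.lTensor_comp, hex.linearMap_comp_eq_zero, LinearMap.lTensor_zero]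
        rfl)
    have hsurj : Function.Surjective (β.lTensor M) := LinearMap.lTensor_surjective M hβ
    haveI : Epi S.g := (ModuleCat.epi_iff_surjective _).2 hsurj
    have hS : S.Exact := (ShortComplex.ShortExact.moduleCat_exact_iff_function_exact S).2 (lTensor_exact M hex hβ)
    obtain ⟨z, hz⟩ : ∃ z, Gm G (α.lTensor M) z = cmp G M (Fin n → Λ) x := by
      let T : ShortComplex (ModuleCat.{u} Λ) := ShortComplex.mk (ModuleCat.ofHom (LinearMap.ker (β.lTensor M)).subtype)
        (ModuleCat.ofHom (β.lTensor M)) (by ext y; exact y.2)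
      have hT : T.Exact := (ShortComplex.ShortExact.moduleCat_exact_iff_function_exact T).2 fun y =>
        ⟨fun hy => ⟨⟨y, hy⟩, rfl⟩, fun ⟨w, hw⟩ => hw ▸ w.2⟩
      haveI : Mono T.f := (ModuleCat.mono_iff_injective _).2 Subtype.val_injective
      have hTG : (T.map G).Exact :=
        ShortComplex.exact_of_f_is_kernel _ (KernelFork.mapIsLimit _ hT.fIsKernel G)
      obtain ⟨w, hw⟩ := ((ShortComplex.ShortExact.moduleCat_exact_iff_function_exact _).1 hTG (cmp G M (Fin n → Λ) x)).1 hx
      let p : M ⊗[Λ] (Fin m → Λ) →ₗ[Λ] ↥(LinearMap.ker (β.lTensor M)) :=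
        (α.lTensor M).codRestrict _ fun y => (lTensor_exact M hex hβ).apply_apply_eq_zero y
      obtain ⟨z, rfl⟩ := hepi (ModuleCat.ofHom p) (fun y => by
        obtain ⟨v, hv⟩ := (lTensor_exact M hex hβ y.1).1 y.2
        exact ⟨v, Subtype.ext hv⟩) w
      refine ⟨z, Eq.trans ?_ hw⟩
      show Gm G (α.lTensor M) z = Gm G (LinearMap.ker (β.lTensor M)).subtype (Gm G p z)
      rw [← LinearMap.comp_apply, ← Gm_comp]
      rfl
    obtain ⟨z', rfl⟩ := (cmp_free G M m).2 z
    rw [← LinearMap.comp_apply, ← cmp_natural, LinearMap.comp_apply] at hz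
    rw [← (cmp_free G M n).1 hz, ← LinearMap.comp_apply, ← LinearMap.lTensor_comp, hex.linearMap_comp_eq_zero,
      LinearMap.lTensor_zero, LinearMap.zero_apply]
  · intro y
    obtain ⟨w, rfl⟩ := hepi (ModuleCat.ofHom (β.lTensor M)) (LinearMap.lTensor_surjective M hβ) y
    obtain ⟨v, rfl⟩ := (cmp_free G M n).2 w
    exact ⟨β.lTensor _ v, LinearMap.congr_fun (cmp_natural G M β) v⟩

/-- A left exact, linear functor preserving surjections sends flat modules to flat modules over a coherent ring. -/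
theorem flat_of_coherent [PreservesFiniteLimits G]
    (hepi : ∀ {A B : ModuleCat.{u} Λ} (g : A ⟶ B), Function.Surjective g → Function.Surjective (G.map g))
    (hΛ : ∀ I : Ideal Λ, I.FG → Module.FinitePresentation Λ I) [Module.Flat Λ M] :
    Module.Flat Λ (G.obj (ModuleCat.of Λ M)) := by
  refine Module.Flat.iff_lTensor_injective.2 fun I hI => ?_
  haveI := hΛ I hI
  have h1 : Function.Injective (Gm G (I.subtype.lTensor M)) := by
    haveI : Mono (ModuleCat.ofHom (I.subtype.lTensor M)) :=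
      (ModuleCat.mono_iff_injective _).2 (Module.Flat.lTensor_preserves_injective_linearMap _ Subtype.val_injective)
    exact (ModuleCat.mono_iff_injective (G.map (ModuleCat.ofHom (I.subtype.lTensor M)))).1 inferInstance
  intro a b hab
  refine (cmp_bijective G M hepi I).1 (h1 ?_)
  have key := cmp_natural G M (I.subtype)
  rw [← LinearMap.comp_apply, ← LinearMap.comp_apply, ← key, LinearMap.comp_apply, LinearMap.comp_apply]
  exact congrArg _ hab

end

end Groth.Agent.W7ConstSheaf
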